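import Groth.Agent.Desc59.FlatH0
import Groth.Agent.Crv77.Sections
import Groth.Agent.Var76.FibBC
import Mathlib.LinearAlgebra.Dimension.Constructions

/-!
# Global sections and extension of the ground field
-/

set_option autoImplicit false
set_option linter.style.haveILetI false
set_option backward.isDefEq.respectTransparency false
set_option backward.isDefEq.respectTransparency.types false

universe u

open CategoryTheory Limits AlgebraicGeometry TopologicalSpace TensorProduct
open Groth.Agent.QC70 Groth.Agent.Desc59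

noncomputable section

namespace Groth.Agent.Curves2.Genus0

theorem lTensor_injective_coord {A B : Type u} [CommRing A] [AddCommGroup B] [Module A B] [Module.Flat A B]
    {I : Type} [Fintype I] [DecidableEq I] {N₀ : Type u} [AddCommGroup N₀] [Module A N₀]
    {N : I → Type u} [∀ i, AddCommGroup (N i)] [∀ i, Module A (N i)] (ρ : ∀ i, N₀ →ₗ[A] N i)
    (hρ : Function.Injective (LinearMap.pi ρ)) (z : B ⊗[A] N₀) (h : ∀ i, (ρ i).lTensor B z = 0) :
    z = 0 := by
  have hproj : ∀ i (w : B ⊗[A] (∀ i, N i)),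
      (LinearMap.proj (R := A) (φ := N) i).lTensor B w = TensorProduct.piRight A A B N w i := by
    intro i w
    induction w with
    | zero => simp
    | add a b ha hb => rw [map_add, map_add, ha, hb]; rfl
    | tmul a x => simp
  refine Module.Flat.lTensor_preserves_injective_linearMap (LinearMap.pi ρ) hρ ?_
  rw [map_zero]
  refine (TensorProduct.piRight A A B N).injective (funext fun i => ?_)
  rw [← hproj, ← LinearMap.lTensor_comp_apply, map_zero, Pi.zero_apply]
  exact h i

variable {X Y X' Y' : Scheme.{u}} (f : X ⟶ Y) (g : Y' ⟶ Y) (f' : X' ⟶ Y') (g' : X' ⟶ X) (F : X.Modules)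

/-- Flat base change of global sections. -/
theorem μ_top_bijective [IsAffine Y] [IsAffine Y'] [F.IsQuasicoherent] [CompactSpace X]
    [QuasiSeparatedSpace X] [Flat g] (H : IsPullback g' f' f g) :
    Function.Bijective (FlatH0.μ f g f' g' F H ⊤) := by
  classical
  letI : ∀ O : X.Opens, Module Γ(Y, ⊤) Γ(F, O) := FlatH0.baseModule f F
  letI := g.appTop.hom.toAlgebra
  refine ⟨(injective_iff_map_eq_zero _).2 fun z hz => ?_, FlatH0.exists_eq_μ f f' g' F H⟩
  obtain ⟨n, U, hU, hcov⟩ := FlatH0.exists_finite_affine_cover (X := X) (O := ⊤) isCompact_univ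
  haveI : Module.Flat Γ(Y, ⊤) Γ(Y', ⊤) := by
    have h : RingHom.Flat (g.appLE ⊤ ⊤ le_top).hom :=
      HasRingHomProperty.appLE @Flat g inferInstance ⟨⊤, isAffineOpen_top _⟩ ⟨⊤, isAffineOpen_top _⟩ le_top
    have eg : g.appLE ⊤ ⊤ le_top = g.appTop := (Scheme.Hom.app_eq_appLE g (U := ⊤)).symm
    rw [eg] at h
    exact h
  refine lTensor_injective_coord (N := fun i => Γ(F, U i)) (fun i => FlatH0.resLin f F (le_top : U i ≤ ⊤))
    (fun a b h => FlatH0.eq_of_cover F U (fun i => le_top) hcov fun i => congrFun h i) z fun i => ?_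
  refine (FlatH0.μ_bijective f f' g' F H (hU i).1).1 ?_
  rw [← FlatH0.μ_natural f f' g' F H (le_top : U i ≤ ⊤), hz, map_zero]
  exact res_zero _

section Field

variable {k K : Type u} [Field k] [Field K] [Algebra k K] {X : Scheme.{u}}
  [X.Over (Spec (CommRingCat.of k))]

theorem finrank_h0_eq (F : X.Modules) :
    letI := FlatH0.baseModule (X ↘ Spec (CommRingCat.of k)) F ⊤
    Module.finrank k (Coh.HH X F 0) = Module.finrank Γ(Spec (CommRingCat.of k), ⊤) Γ(F, ⊤) := by
  letI := FlatH0.baseModule (X ↘ Spec (CommRingCat.of k)) F ⊤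
  refine congrArg Cardinal.toNat (rank_eq_of_equiv_equiv (R := k) (R' := Γ(Spec (CommRingCat.of k), ⊤))
    (Scheme.ΓSpecIso (CommRingCat.of k)).inv.hom (Crv77.sec F)
    (ConcreteCategory.bijective_of_isIso (Scheme.ΓSpecIso (CommRingCat.of k)).inv) fun r m => ?_)
  rw [Crv77.sec_smul k]
  show _ = (X ↘ Spec (CommRingCat.of k)).appLE ⊤ ⊤ le_top _ • (Crv77.sec F m : Γ(F, ⊤))
  congr 1
  rw [show (X ↘ Spec (CommRingCat.of k)).appLE ⊤ ⊤ le_top = (X ↘ Spec (CommRingCat.of k)).appTop from
    (Scheme.Hom.app_eq_appLE _ (U := ⊤)).symm]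
  rfl

/-- Dimensions of global sections do not change under extension of the ground field. -/
theorem finrank_h0_pullback [QuasiCompact (X ↘ Spec (CommRingCat.of k))]
    [IsSeparated (X ↘ Spec (CommRingCat.of k))] (F : X.Modules) [F.IsQuasicoherent]
    {X' : Scheme.{u}} [X'.Over (Spec (CommRingCat.of K))] (p : X' ⟶ X)
    (H : IsPullback p (X' ↘ Spec (CommRingCat.of K)) (X ↘ Spec (CommRingCat.of k))
      (Spec.map (CommRingCat.ofHom (algebraMap k K)))) :
    Module.finrank K (Coh.HH X' ((Scheme.Modules.pullback p).obj F) 0) =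
      Module.finrank k (Coh.HH X F 0) := by
  set g := Spec.map (CommRingCat.ofHom (algebraMap k K))
  set f := X ↘ Spec (CommRingCat.of k)
  set f' := X' ↘ Spec (CommRingCat.of K)
  haveI : Flat g := Var76.FibBC.flat_of_field g
  haveI : CompactSpace X := QuasiCompact.compactSpace_of_compactSpace f
  haveI : QuasiSeparatedSpace X := quasiSeparatedSpace_of_quasiSeparated f
  haveI : QuasiCompact (X' ↘ Spec (CommRingCat.of K)) :=
    MorphismProperty.of_isPullback (P := @QuasiCompact) H inferInstance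
  letI := g.appTop.hom.toAlgebra
  letI := FlatH0.baseModule f F ⊤
  letI := FlatH0.baseModule f' ((Scheme.Modules.pullback p).obj F) ⊤
  letI : Module Γ(Spec (CommRingCat.of K), ⊤) Γ((Scheme.Modules.pullback p).obj F, p ⁻¹ᵁ ⊤) :=
    FlatH0.baseModule f' ((Scheme.Modules.pullback p).obj F) (p ⁻¹ᵁ ⊤)
  have hb := μ_top_bijective f g f' p F H
  rw [finrank_h0_eq F, finrank_h0_eq ((Scheme.Modules.pullback p).obj F)]
  haveI : Nontrivial Γ(Spec (CommRingCat.of k), ⊤) :=
    (Scheme.ΓSpecIso (CommRingCat.of k)).commRingCatIsoToRingEquiv.toEquiv.nontrivial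
  haveI : Nontrivial Γ(Spec (CommRingCat.of K), ⊤) :=
    (Scheme.ΓSpecIso (CommRingCat.of K)).commRingCatIsoToRingEquiv.toEquiv.nontrivial
  have hk : IsField Γ(Spec (CommRingCat.of k), ⊤) :=
    MulEquiv.isField (Field.toIsField k) (Scheme.ΓSpecIso (CommRingCat.of k)).commRingCatIsoToRingEquiv.toMulEquiv
  haveI : Module.Free Γ(Spec (CommRingCat.of k), ⊤) Γ(F, ⊤) := by
    letI := hk.toField
    exact Module.Free.of_divisionRing _ _
  rw [← Module.finrank_baseChange (R := Γ(Spec (CommRingCat.of K), ⊤)) (S := Γ(Spec (CommRingCat.of k), ⊤))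
    (M' := Γ(F, ⊤))]
  refine (LinearEquiv.finrank_eq (LinearEquiv.ofBijective
    { toFun := FlatH0.μ f g f' p F H ⊤
      map_add' := map_add _
      map_smul' := fun a z => ?_ } hb)).symm
  simp only [RingHom.id_apply]
  induction z with
  | zero => rw [smul_zero, map_zero, smul_zero]
  | add x y hx hy => rw [smul_add, map_add, map_add, smul_add, hx, hy]
  | tmul b m =>
    show f'.appLE ⊤ (p ⁻¹ᵁ ⊤) le_top (a * b) • Amp73.pullS p F ⊤ m =
      f'.appLE ⊤ (p ⁻¹ᵁ ⊤) le_top a • (f'.appLE ⊤ (p ⁻¹ᵁ ⊤) le_top b • Amp73.pullS p F ⊤ m)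
    rw [map_mul, mul_smul]

end Field

end Groth.Agent.Curves2.Genus0
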