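import Groth.Agent.Curves2.Genus0.H0BC
import Groth.Agent.Curves2.CurveToolkit
import Groth.Agent.Crv77.FFBridge
import Groth.Agent.Crv77.MaxSeries
import Groth.Agent.VarCurve.AmpleDeg
import Groth.Agent.S1530
import Groth.Agent.S6541
import Groth.Agent.Curves2.RatPoint
import Groth.Agent.VarCurve.PointDrop
import Groth.Agent.Amp73.QA
import Groth.Agent.EGA73.VeryAmplePnAmple
import Groth.Agent.FlatMor68.FibDimBC
import Groth.Agent.Unr55.PointDesc
import Groth.Agent.Crv77.P1Deg
import Groth.Agent.H98Proj.SmoothPn

/-!
# Geometrically integral curves of genus zero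
-/

set_option autoImplicit false
set_option linter.style.haveILetI false

universe u

open CategoryTheory Limits AlgebraicGeometry

noncomputable section

namespace Groth.Agent.Curves2.Genus0

variable {k : Type u} [Field k] {X : Scheme.{u}} [X.Over (Spec (CommRingCat.of k))]
  [IsProper (X ↘ Spec (CommRingCat.of k))]

/-- Vanishing of `H¹(O)` survives extension of the ground field. -/
theorem subsingleton_h1_baseChange [IsIntegral X] (hdim : topologicalKrullDim X = 1)
    (h0 : Module.finrank k (Coh.HH X (Coh.structureModule X) 0) = 1)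
    (h1 : Subsingleton (Coh.HH X (Coh.structureModule X) 1))
    (L : X.Modules) (hL : CohB1.IsAmple L)
    {K : Type u} [Field K] [Algebra k K] {X' : Scheme.{u}} [X'.Over (Spec (CommRingCat.of K))]
    [IsProper (X' ↘ Spec (CommRingCat.of K))] [IsIntegral X'] (hdim' : topologicalKrullDim X' = 1)
    (h0' : Module.finrank K (Coh.HH X' (Coh.structureModule X') 0) = 1)
    (p : X' ⟶ X) (H : IsPullback p (X' ↘ Spec (CommRingCat.of K)) (X ↘ Spec (CommRingCat.of k))
      (Spec.map (CommRingCat.ofHom (algebraMap k K)))) :
    Subsingleton (Coh.HH X' (Coh.structureModule X') 1) := by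
  have := Crv77.isNoetherian_of_proper k X
  have := Crv77.isNoetherian_of_proper K X'
  have hX := Crv77.curveCoh_of_proper k X hdim.le
  have hX' := Crv77.curveCoh_of_proper K X' hdim'.le
  have hg : Curv2.genus k X = 0 := Module.finrank_zero_of_subsingleton
  have : IsAffineHom p := MorphismProperty.of_isPullback (P := @IsAffineHom) H.flip
    (inferInstanceAs (IsAffineHom (Spec.map (CommRingCat.ofHom (algebraMap k K)))))
  let L' := (Scheme.Modules.pullback p).obj L
  have hL' : CohB1.IsAmple L' := Amp73.isAmple_pullback p (Amp73.isQuasiAffine_of_isAffineHom p) hL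
  have hd := (S1530.result k X hdim L hL.1).1 hL
  have ha := (S1530.result K X' hdim' L' hL'.1).1 hL'
  have key : ∀ n : ℕ, 2 * (Curv2.genus K X' : ℤ) < n →
      (n : ℤ) * Curv2.deg k X L 1 = n * Curv2.deg K X' L' 1 - Curv2.genus K X' := by
    intro n hn
    have hM := EGA73.isInvertible_tensorPow hL.1 n
    have hM' := EGA73.isInvertible_tensorPow hL'.1 n
    have hdM := hX.deg_tensorPow hdim.le hL.1 n
    have hdM' := hX'.deg_tensorPow hdim'.le hL'.1 n
    have h1M := hX.h1_eq_zero_of_deg_gt hdim h0 hM (by rw [hdM, hg]; push_cast; nlinarith)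
    have h1M' := hX'.h1_eq_zero_of_deg_gt hdim' h0' hM' (by rw [hdM']; nlinarith)
    have := (Crv77.isCoh_of_isInvertible hM).1
    have e := finrank_h0_pullback (K := K) (CohB1.tensorPow L n) p H
    rw [finrank_congr K (Amp73.pullPowIso p hL.1 n)] at e
    have r := hX.riemann h0 (Crv77.isCoh_of_isInvertible hM)
    have r' := hX'.riemann h0' (Crv77.isCoh_of_isInvertible hM')
    simp only [Crv77.h, Module.finrank_zero_of_subsingleton (M := Coh.HH X (CohB1.tensorPow L n) 1),
      Module.finrank_zero_of_subsingleton (M := Coh.HH X' (CohB1.tensorPow L' n) 1)] at r r'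
    rw [hdM, hg] at r
    rw [hdM'] at r'
    rw [e] at r'
    omega
  have k1 := key (2 * Curv2.genus K X' + 1) (by push_cast; omega)
  have k2 := key (2 * Curv2.genus K X' + 2) (by push_cast; omega)
  push_cast at k1 k2
  have hg' : Curv2.genus K X' = 0 := by
    have : Curv2.deg k X L 1 = Curv2.deg K X' L' 1 := by linarith
    rw [this] at k1
    omega
  have := hX'.finite _ (Crv77.isCoh_structureModule (X := X')) 1
  exact (Module.finrank_zero_iff (R := K)).1 hg'

/-- A genus zero curve over an algebraically closed field is smooth. -/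
theorem smooth_of_algClosed [IsAlgClosed k] [IsIntegral X] (hdim : topologicalKrullDim X = 1)
    (h1 : Subsingleton (Coh.HH X (Coh.structureModule X) 1)) : Smooth (X ↘ Spec (CommRingCat.of k)) := by
  have := Crv77.isNoetherian_of_proper k X
  have hX := Crv77.curveCoh_of_proper k X hdim.le
  obtain ⟨x, hx, -, hI⟩ := VarCurve.exists_point k hdim (W := ⊤) ⟨genericPoint X, trivial⟩
  obtain ⟨L, hL, ⟨e⟩⟩ := Crv77.exists_inverse hI
  have hI' : Curv2.deg k X (ClSub.idealMod (Crv77.ptIdeal hx)) 1 + Curv2.deg k X L 1 = 0 := by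
    rw [← hX.deg_tensorMod hdim.le hI hL, Curves2.deg_congr k e, Curves2.deg_structureModule]
  have hdeg : Curv2.deg k X L 1 = 1 := by
    have h2 := hX.euler_idealMod_tensor (Crv77.ptIdeal hx)
      ((Crv77.ptIdeal_support hx) ▸ Set.finite_singleton x)
      (fun y hy => by rw [Crv77.ptIdeal_support hx, Set.mem_singleton_iff] at hy; exact hy ▸ hx) hL
      (Crv77.isCoh_of_isInvertible hL)
    rw [Crv77.euler_congr (k := k) e] at h2
    simp only [Crv77.h] at h2
    rw [Crv77.finrank_quot_point k hx,
      finrank_residueField_of_bijective (Crv77.resMap_bijective k hx)] at h2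
    simp only [Curv2.deg, Nat.cast_one, one_mul]
    omega
  obtain ⟨i, hi⟩ := S6541.result k X hdim h1 L hL hdeg
  rw [← hi]
  have := H98Proj.smooth_toSpec 1 k
  exact inferInstance

end Groth.Agent.Curves2.Genus0
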