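import Groth.Agent.Curves2.Genus0.SectionsIso
import Groth.Agent.Crv77.FFBridge
import Groth.Agent.Crv77.MaxSeries
import Groth.Agent.CrvPic30.Omega
import Groth.Agent.Om3.EtaleSquare
import Groth.Agent.Om3.Compat
import Groth.Agent.Var76.OmegaUniv
import Groth.Agent.Amp73.QA
import Groth.Agent.S1530
import Groth.Agent.Curves2.CurveToolkit
import Groth.Agent.Crv77.CMCurve
import Groth.Agent.Curves2.RatPoint
import Groth.Agent.Curves2.Genus0.Geometric
import Groth.Agent.Curves2.SmoothNormal
import Mathlib.AlgebraicGeometry.Morphisms.FlatDescent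

/-!
# Finite étale covers of curves of genus zero
-/

set_option autoImplicit false
set_option linter.style.haveILetI false
set_option backward.isDefEq.respectTransparency false

universe u

open CategoryTheory Limits AlgebraicGeometry

noncomputable section

namespace Groth.Agent.Curves2.Genus0

variable (k : Type u) [Field k] {X Y : Scheme.{u}} [X.Over (Spec (CommRingCat.of k))]
  [Y.Over (Spec (CommRingCat.of k))]

/-- Pullback of global sections, linear over the ground field. -/
def pullH0 (f : X ⟶ Y) (hf : f ≫ (Y ↘ Spec (CommRingCat.of k)) = X ↘ Spec (CommRingCat.of k))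
    (M : Y.Modules) : Coh.HH Y M 0 →ₗ[k] Coh.HH X ((Scheme.Modules.pullback f).obj M) 0 where
  toFun v := (Crv77.sec _).symm (Amp73.pullS f M ⊤ (Crv77.sec M v))
  map_add' v w := by
    rw [map_add]
    exact (congrArg _ (map_add (((Scheme.Modules.pullbackPushforwardAdjunction f).unit.app M).app ⊤).hom
      (Crv77.sec M v) (Crv77.sec M w))).trans (map_add (Crv77.sec _).symm _ _)
  map_smul' r v := by
    simp only [RingHom.id_apply]
    refine (Crv77.sec _).injective ?_
    rw [AddEquiv.apply_symm_apply, Crv77.sec_smul k, Crv77.sec_smul k, AddEquiv.apply_symm_apply,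
      Amp73.pullS_smul]
    congr 1
    show f.appTop ((Y ↘ Spec (CommRingCat.of k)).appTop
        ((Scheme.ΓSpecIso (CommRingCat.of k)).inv r)) = (X ↘ Spec (CommRingCat.of k)).appTop _
    rw [← hf, Scheme.Hom.comp_appTop]
    rfl

theorem pullH0_injective (f : X ⟶ Y) [Surjective f] [IsReduced Y]
    (hf : f ≫ (Y ↘ Spec (CommRingCat.of k)) = X ↘ Spec (CommRingCat.of k))
    {M : Y.Modules} (hM : PicF.IsInvertible M) : Function.Injective (pullH0 k f hf M) := fun _ _ h =>
  (Crv77.sec M).injective (pullS_injective f hM ⊤ ((Crv77.sec _).symm.injective h))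

variable [IsProper (X ↘ Spec (CommRingCat.of k))] [IsProper (Y ↘ Spec (CommRingCat.of k))]
  [IsIntegral X] [IsIntegral Y] [Smooth (X ↘ Spec (CommRingCat.of k))] [Smooth (Y ↘ Spec (CommRingCat.of k))]

omit [Y.Over (Spec (CommRingCat.of k))] [IsProper (Y ↘ Spec (CommRingCat.of k))]
  [IsIntegral Y] [Smooth (Y ↘ Spec (CommRingCat.of k))] in
/-- The degree of the differentials of a smooth curve with constant functions `k`. -/
theorem deg_omega [IsAlgClosed k] (hdim : topologicalKrullDim X = 1) :
    PicF.IsInvertible (Omega.sheaf (X ↘ Spec (CommRingCat.of k))) ∧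
      Curv2.deg k X (Omega.sheaf (X ↘ Spec (CommRingCat.of k))) 1 = 2 * (Curv2.genus k X : ℤ) - 2 := by
  have h := CrvPic30.setup_of_smooth_algClosed (k := k) (C := X) hdim
  let := CrvPic30.ffAlg k X
  obtain ⟨W, hW, ⟨e⟩⟩ := h.nonempty_iso_omega
  refine ⟨h.isInvertible_omega, ?_⟩
  rw [deg_congr k e, h.deg_O, FF30.deg_canonical h.ff hW, ← h.genus_eq]

/-- A finite étale cover of a curve of genus zero by a curve with constant functions `k` is trivial. -/
theorem isIso_of_etale_algClosed [IsAlgClosed k] (hdX : topologicalKrullDim X = 1) (hdY : topologicalKrullDim Y = 1)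
    (f : X ⟶ Y) [IsFinite f] [Etale f]
    (hf : f ≫ (Y ↘ Spec (CommRingCat.of k)) = X ↘ Spec (CommRingCat.of k))
    (hg : Curv2.genus k Y = 0) : IsIso f := by
  have hX0 := finrank_h0_structureModule k (X := X)
  have hY0 := finrank_h0_structureModule k (X := Y)
  have := Crv77.isNoetherian_of_proper k X
  have := Crv77.isNoetherian_of_proper k Y
  have hX := Crv77.curveCoh_of_proper k X hdX.le
  have hY := Crv77.curveCoh_of_proper k Y hdY.le
  have : Surjective f := ⟨Set.range_eq_univ.1 (IsClopen.eq_univ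
    ⟨f.isClosedMap.isClosed_range, f.isOpenMap.isOpen_range⟩ (Set.range_nonempty _))⟩
  obtain ⟨hΩY, hdΩY⟩ := deg_omega k (X := Y) hdY
  obtain ⟨-, hdΩX⟩ := deg_omega k (X := X) hdX
  obtain ⟨N, hN, ⟨eN⟩⟩ := Crv77.exists_inverse hΩY
  have hdN : Curv2.deg k Y N 1 = 2 := by
    have h := hY.deg_tensorMod hdY.le hΩY hN
    rw [deg_congr k eN, deg_structureModule, hdΩY, hg] at h
    omega
  have hNa : CohB1.IsAmple N := (S1530.result k Y hdY N hN).2 (by omega)
  obtain ⟨c, hc, -⟩ := Om3.existsUnique_diffCompat f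
    (show (X ↘ Spec (CommRingCat.of k)) ≫ 𝟙 _ = f ≫ (Y ↘ Spec (CommRingCat.of k)) by rw [Category.comp_id, hf])
    (Var76.OmegaUniv.isUniversal (Y ↘ Spec (CommRingCat.of k))) (OmegaSh.dOmega (X ↘ Spec (CommRingCat.of k)))
  have := Om3.isIso_of_etale f (𝟙 _) (by rw [Category.comp_id, hf])
    (Var76.OmegaUniv.isUniversal (Y ↘ Spec (CommRingCat.of k)))
    (Var76.OmegaUniv.isUniversal (X ↘ Spec (CommRingCat.of k))) c hc
  have hfN : CohB1.IsAmple ((Scheme.Modules.pullback f).obj N) :=
    Amp73.isAmple_pullback f (Amp73.isQuasiAffine_of_isAffineHom f) hNa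
  have hpos := (S1530.result k X hdX _ hfN.1).1 hfN
  have := Amp73.isIso_pullTensHom f hΩY hN
  have hsum := hX.deg_tensorMod hdX.le (Amp73.isInvertible_pullback f hΩY) hfN.1
  rw [← deg_congr k (asIso (Amp73.pullTensHom f _ _)),
    deg_congr k ((Scheme.Modules.pullback f).mapIso eN ≪≫ PicLoc.pullbackStructureIso f),
    deg_structureModule, deg_congr k (asIso c), hdΩX] at hsum
  have hgX : Curv2.genus k X = 0 := by omega
  have hdfN : Curv2.deg k X ((Scheme.Modules.pullback f).obj N) 1 = 2 := by omega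
  refine isIso_of_pullS_surjective f hNa fun m n => ?_
  set P := CohB1.tensorPow (CohB1.tensorPow N m) n
  have hP : PicF.IsInvertible P := EGA73.isInvertible_tensorPow (EGA73.isInvertible_tensorPow hN m) n
  have hfP := Amp73.isInvertible_pullback f hP
  have hdP : Curv2.deg k Y P 1 = n * (m * 2) := by
    rw [hY.deg_tensorPow hdY.le (EGA73.isInvertible_tensorPow hN m), hY.deg_tensorPow hdY.le hN, hdN]
  have hdfP : Curv2.deg k X ((Scheme.Modules.pullback f).obj P) 1 = n * (m * 2) := by
    rw [deg_congr k (Amp73.pullPowIso f (EGA73.isInvertible_tensorPow hN m) n),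
      hX.deg_tensorPow hdX.le (Amp73.isInvertible_pullback f (EGA73.isInvertible_tensorPow hN m)),
      deg_congr k (Amp73.pullPowIso f hN m), hX.deg_tensorPow hdX.le hfN.1, hdfN]
  have h1P := hY.h1_eq_zero_of_deg_gt hdY hY0 hP (by rw [hdP, hg]; push_cast; nlinarith)
  have h1fP := hX.h1_eq_zero_of_deg_gt hdX hX0 hfP (by rw [hdfP, hgX]; push_cast; nlinarith)
  have r := hY.riemann hY0 (Crv77.isCoh_of_isInvertible hP)
  have r' := hX.riemann hX0 (Crv77.isCoh_of_isInvertible hfP)
  simp only [Crv77.h, Module.finrank_zero_of_subsingleton (M := Coh.HH Y P 1),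
    Module.finrank_zero_of_subsingleton (M := Coh.HH X ((Scheme.Modules.pullback f).obj P) 1)] at r r'
  have := hY.finite _ (Crv77.isCoh_of_isInvertible hP) 0
  have := hX.finite _ (Crv77.isCoh_of_isInvertible hfP) 0
  have hs := (LinearMap.injective_iff_surjective_of_finrank_eq_finrank (by omega)).1
    (pullH0_injective k f hf hP)
  intro t
  obtain ⟨v, hv⟩ := hs ((Crv77.sec _).symm t)
  exact ⟨Crv77.sec P v, (Crv77.sec _).symm.injective hv⟩

omit [Y.Over (Spec (CommRingCat.of k))] [IsProper (Y ↘ Spec (CommRingCat.of k))]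
  [IsIntegral Y] [Smooth (Y ↘ Spec (CommRingCat.of k))] in
/-- Extension of the ground field of a smooth proper curve with constant functions `k`. -/
theorem curve_baseChange {K : Type u} [Field K] [Algebra k K] (hdim : topologicalKrullDim X = 1)
    (h0 : Module.finrank k (Coh.HH X (Coh.structureModule X) 0) = 1) {X' : Scheme.{u}}
    [X'.Over (Spec (CommRingCat.of K))] (p : X' ⟶ X)
    (H : IsPullback p (X' ↘ Spec (CommRingCat.of K)) (X ↘ Spec (CommRingCat.of k))
      (Spec.map (CommRingCat.ofHom (algebraMap k K)))) :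
    IsProper (X' ↘ Spec (CommRingCat.of K)) ∧ Smooth (X' ↘ Spec (CommRingCat.of K)) ∧ IsIntegral X' ∧
      topologicalKrullDim X' = 1 ∧ Module.finrank K (Coh.HH X' (Coh.structureModule X') 0) = 1 := by
  have hp : IsProper (X' ↘ Spec (CommRingCat.of K)) := MorphismProperty.of_isPullback H inferInstance
  have hs : Smooth (X' ↘ Spec (CommRingCat.of K)) := MorphismProperty.of_isPullback H inferInstance
  have : Surjective (Spec.map (CommRingCat.ofHom (algebraMap k K))) :=
    ⟨fun x => ⟨IsLocalRing.closedPoint K, Subsingleton.elim (α := Spec (CommRingCat.of k)) _ _⟩⟩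
  have : Surjective p := MorphismProperty.of_isPullback H.flip inferInstance
  have h0' : Module.finrank K (Coh.HH X' (Coh.structureModule X') 0) = 1 := by
    have := (Crv77.isCoh_of_isInvertible (X := X) EGA73.isInvertible_structureModule).1
    rw [← finrank_congr K (PicLoc.pullbackStructureIso p), finrank_h0_pullback (Coh.structureModule X) p H, h0]
  have : Nonempty X' := (p.surjective (genericPoint X)).nonempty
  have := (Crv77.onlyConst_of_finrank K h0').connectedSpace
  have := Crv77.isNoetherian_of_proper K X'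
  refine ⟨hp, hs, Crv77.isIntegral_of_connected_normal fun x =>
    isIntegrallyClosed_stalk_of_smooth (X' ↘ Spec (CommRingCat.of K)) x, ?_, h0'⟩
  rw [FlatMor68.FibDimBC.dim_eq_of_isPullback_field (algebraMap k K) _ p _ H, hdim]

/-- A finite étale cover of a genus zero curve by a curve with constant functions `k` is trivial. -/
theorem isIso_of_etale_genus_zero (hdX : topologicalKrullDim X = 1) (hdY : topologicalKrullDim Y = 1)
    (hX0 : Module.finrank k (Coh.HH X (Coh.structureModule X) 0) = 1)
    (hY0 : Module.finrank k (Coh.HH Y (Coh.structureModule Y) 0) = 1) (f : X ⟶ Y) [IsFinite f] [Etale f]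
    (hf : f ≫ (Y ↘ Spec (CommRingCat.of k)) = X ↘ Spec (CommRingCat.of k))
    (hg : Curv2.genus k Y = 0) : IsIso f := by
  let g := Spec.map (CommRingCat.ofHom (algebraMap k (AlgebraicClosure k)))
  let Y' := pullback (Y ↘ Spec (CommRingCat.of k)) g
  let X' := pullback f (pullback.fst (Y ↘ Spec (CommRingCat.of k)) g)
  let f' : X' ⟶ Y' := pullback.snd _ _
  letI : Y'.Over (Spec (CommRingCat.of (AlgebraicClosure k))) := ⟨pullback.snd _ g⟩
  letI : X'.Over (Spec (CommRingCat.of (AlgebraicClosure k))) := ⟨f' ≫ pullback.snd _ g⟩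
  have HY : IsPullback (pullback.fst (Y ↘ Spec (CommRingCat.of k)) g)
      (Y' ↘ Spec (CommRingCat.of (AlgebraicClosure k))) (Y ↘ Spec (CommRingCat.of k)) g :=
    IsPullback.of_hasPullback _ _
  have HX : IsPullback (pullback.fst f (pullback.fst (Y ↘ Spec (CommRingCat.of k)) g))
      (X' ↘ Spec (CommRingCat.of (AlgebraicClosure k))) (X ↘ Spec (CommRingCat.of k)) g := by
    rw [← hf]
    exact (IsPullback.of_hasPullback f _).paste_vert HY
  obtain ⟨_, _, _, hdY', h0Y'⟩ := curve_baseChange k (X := Y) hdY hY0 _ HY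
  obtain ⟨_, _, _, hdX', -⟩ := curve_baseChange k (X := X) hdX hX0 _ HX
  have := Crv77.isNoetherian_of_proper k Y
  have hY := Crv77.curveCoh_of_proper k Y hdY.le
  obtain ⟨c, hc⟩ := Crv77.exists_isClosed_specializes (genericPoint Y)
  obtain ⟨_, _⟩ := Crv77.valuationRing_stalks_of_smooth (k := k) hdY c
  obtain ⟨L, hL, hdeg⟩ := Crv77.finrank_mem_degGroup (k := k) hdY hc.1
  have hLa : CohB1.IsAmple L := (S1530.result k Y hdY L hL).2 (by
    have := one_le_finrank_residueField (k := k) hc.1
    omega)
  have hg1 : Subsingleton (Coh.HH Y (Coh.structureModule Y) 1) :=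
    have := hY.finite _ (Crv77.isCoh_structureModule (X := Y)) 1
    (Module.finrank_zero_iff (R := k)).1 hg
  have hg' : Curv2.genus (AlgebraicClosure k) Y' = 0 :=
    have := subsingleton_h1_baseChange hdY hY0 hg1 L hLa hdY' h0Y' _ HY
    Module.finrank_zero_of_subsingleton
  have : IsIso f' := isIso_of_etale_algClosed (AlgebraicClosure k) hdX' hdY' f' rfl hg'
  have hpy : (@Surjective ⊓ @Flat ⊓ @QuasiCompact : MorphismProperty Scheme.{u})
      (pullback.fst (Y ↘ Spec (CommRingCat.of k)) g) := by
    have : Surjective g :=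
      ⟨fun x => ⟨IsLocalRing.closedPoint _, Subsingleton.elim (α := Spec (CommRingCat.of k)) _ _⟩⟩
    have : Flat g := Var76.FibBC.flat_of_field g
    exact ⟨⟨inferInstance, inferInstance⟩, inferInstance⟩
  exact MorphismProperty.of_isPullback_of_descendsAlong (P := MorphismProperty.isomorphisms Scheme.{u})
    (IsPullback.of_hasPullback f _).flip hpy ‹IsIso f'›

end Groth.Agent.Curves2.Genus0
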