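import Groth.Agent.Amp73.Ext
import Groth.Agent.Amp73.Local
import Groth.Agent.Amp73.Powers
import Groth.Agent.Amp73.PullTensor
import Groth.Agent.EGA73.Invertible
import Groth.Agent.Crv77.DegreeInt
import Groth.Agent.Mero90.Triv
import Mathlib.AlgebraicGeometry.Morphisms.Affine

/-!
# A surjective affine morphism preserving sections of an ample module is an isomorphism
-/

set_option autoImplicit false
set_option linter.style.haveILetI false
set_option backward.isDefEq.respectTransparency false

universe u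

open CategoryTheory Limits AlgebraicGeometry TopologicalSpace
open Groth.Agent.Var76.LineBundle Groth.Agent.Var76.ZeroScheme Groth.Agent.Amp73

noncomputable section

namespace Groth.Agent.Curves2.Genus0

variable {X Y : Scheme.{u}} (f : X ⟶ Y) [Surjective f]

/-- Functions on a reduced target are detected upstairs. -/
theorem app_injective [IsReduced Y] (U : Y.Opens) : Function.Injective (f.app U) := by
  refine (injective_iff_map_eq_zero (f.app U).hom).2 fun b hb => ?_
  rw [← basicOpen_eq_bot_iff]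
  refine Opens.ext (Set.eq_empty_of_forall_notMem fun y hy => ?_)
  obtain ⟨x, rfl⟩ := f.surjective y
  have h : x ∈ f ⁻¹ᵁ Y.basicOpen b := hy
  rw [Scheme.preimage_basicOpen, show f.app U b = 0 from hb, Scheme.basicOpen_zero] at h
  exact h.elim

/-- A function whose inverse image is invertible is invertible. -/
theorem isUnit_of_isUnit_app {U : Y.Opens} (b : Γ(Y, U)) (hb : IsUnit (f.app U b)) : IsUnit b := by
  have hle : U ≤ Y.basicOpen b := fun y hy => by
    obtain ⟨x, rfl⟩ := f.surjective y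
    show x ∈ f ⁻¹ᵁ Y.basicOpen b
    rw [Scheme.preimage_basicOpen, Scheme.basicOpen_of_isUnit _ hb]
    exact hy
  refine RingedSpace.isUnit_of_isUnit_germ Y.toRingedSpace U b fun y hy => ?_
  exact (Y.mem_basicOpen b y hy).1 (hle hy)

/-- Pullback of sections of an invertible module is injective. -/
theorem pullS_injective [IsReduced Y] {M : Y.Modules} (hM : PicF.IsInvertible M) (U : Y.Opens) :
    Function.Injective (pullS f M U) := by
  intro m m' h
  refine Var76.ZeroScheme.eq_of_locally M _ _ fun y hy => ?_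
  obtain ⟨W, hyW, hW, e, he⟩ := Mero90.exists_affine_frame hM y U hy
  refine ⟨W.1, hW, hyW, ?_⟩
  obtain ⟨c, hc⟩ := (he W.1 le_rfl).2 (res M hW m)
  obtain ⟨c', hc'⟩ := (he W.1 le_rfl).2 (res M hW m')
  dsimp only at hc hc'
  rw [← hc, ← hc']
  have h1 := congrArg (res _ (f.preimage_mono hW)) h
  rw [res_pullS f M hW m, res_pullS f M hW m', ← hc, ← hc', pullS_smul, pullS_smul] at h1
  refine congrArg (· • res M le_rfl e) (app_injective f W.1 (((isFrame_pullS f hM (he.res le_rfl)) _ le_rfl).1 ?_))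
  simpa only [Amp73.res_self] using h1

theorem map_map_eq {U V : X.Opens} (h : V ≤ U) (h' : U ≤ V) (b : Γ(X, U)) :
    X.presheaf.map (homOfLE h').op (X.presheaf.map (homOfLE h).op b) = b := by
  obtain rfl := le_antisymm h h'
  simp

/-- Sections of powers coming from below give all functions over a generating locus. -/
theorem surjective_app_genLocus [CompactSpace X] [QuasiSeparatedSpace X] {M : Y.Modules}
    (hM : PicF.IsInvertible M) (h : ∀ n, Function.Surjective (pullS f (CohB1.tensorPow M n) ⊤))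
    (s : Coh.structureModule Y ⟶ M) : Function.Surjective (f.app (CohB1.genLocus M s)) := by
  intro a
  let G := CohB1.genLocus M s
  let L := (Scheme.Modules.pullback f).obj M
  let s' := pullHom f s
  have hG : CohB1.genLocus L s' = f ⁻¹ᵁ G := genLocus_pullHom f hM s
  have hL : PicF.IsInvertible L := isInvertible_pullback f hM
  have hO : Coh.IsQCoh (Coh.structureModule X) := (Crv77.isCoh_of_isInvertible EGA73.isInvertible_structureModule).1
  let tA : Γ(Coh.structureModule X, CohB1.genLocus L s') := X.presheaf.map (homOfLE hG.le).op a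
  let tO : Γ(Coh.structureModule X, CohB1.genLocus L s') := (1 : Γ(X, CohB1.genLocus L s'))
  obtain ⟨n₁, hn₁⟩ := exists_tw_extend hL s' hO tA
  obtain ⟨n₂, hn₂⟩ := exists_tw_extend hL s' hO tO
  let n := max n₁ n₂
  obtain ⟨A, hA⟩ := hn₁ n (le_max_left _ _)
  obtain ⟨O, hOe⟩ := hn₂ n (le_max_right _ _)
  let ψ := EGA73.tensUnitLeft (CohB1.tensorPow L n) ≪≫ (pullPowIso f hM n).symm
  let E₀ := epow (val M s G) n
  have hE₀ : IsFrame (CohB1.tensorPow M n) G E₀ := isFrame_epow (isFrame_genLocus s) n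
  let E := pullS f (CohB1.tensorPow M n) G E₀
  have hE : IsFrame _ (f ⁻¹ᵁ G) E := isFrame_pullS f (EGA73.isInvertible_tensorPow hM n) hE₀
  let T := res _ hG.ge (tw s' n (Coh.structureModule X) tO)
  have hT : IsFrame _ (f ⁻¹ᵁ G) (ψ.hom.app (f ⁻¹ᵁ G) T) :=
    (isFrame_app_iff ψ.hom T).2 ((isFrame_tm (isFrame_one _) (isFrame_epow (isFrame_genLocus s') n)).res hG.ge)
  have key : ∀ (x : Γ(X, f ⁻¹ᵁ G)) (z : Γ(CohB1.tensorMod (Coh.structureModule X) (CohB1.tensorPow L n), ⊤)),
      res _ (le_top : f ⁻¹ᵁ G ≤ ⊤) z = x • T →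
      ∃ b : Γ(Y, G), f.app G b • E = x • ψ.hom.app (f ⁻¹ᵁ G) T := by
    intro x z hz
    obtain ⟨u, hu⟩ := h n (ψ.hom.app ⊤ z)
    obtain ⟨b, hb⟩ := (hE₀ G le_rfl).2 (res _ (le_top : G ≤ ⊤) u)
    dsimp only at hb
    rw [Amp73.res_self] at hb
    refine ⟨b, ?_⟩
    rw [← pullS_smul, hb, ← res_pullS, hu]
    refine (Mero90.app_res ψ.hom (le_top : f ⁻¹ᵁ G ≤ ⊤) z).symm.trans ?_
    rw [hz, Scheme.Modules.Hom.app_smul]
  obtain ⟨bA, hbA⟩ := key a A (by
    rw [← res_res _ (le_top : CohB1.genLocus L s' ≤ ⊤) hG.ge, hA, res_tw]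
    show tw s' n _ (res (Coh.structureModule X) hG.ge tA) = a • res _ hG.ge (tw s' n _ tO)
    rw [res_tw, tw, tw, ← tm_smul_left]
    refine congrArg (fun t => tm (Coh.structureModule X) (CohB1.tensorPow L n) t _) ?_
    show X.presheaf.map (homOfLE hG.ge).op (X.presheaf.map (homOfLE hG.le).op a) =
      a * X.presheaf.map (homOfLE hG.ge).op 1
    rw [map_one, mul_one]
    exact map_map_eq hG.le hG.ge a)
  obtain ⟨bO, hbO⟩ := key 1 O (by
    rw [one_smul, ← res_res _ (le_top : CohB1.genLocus L s' ≤ ⊤) hG.ge, hOe])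
  rw [one_smul] at hbO
  have hu : IsUnit bO := isUnit_of_isUnit_app f bO ((isFrame_smul_iff hE (f.app G bO)).1 (hbO ▸ hT))
  refine ⟨bA * ↑hu.unit⁻¹, ?_⟩
  rw [← hbO, smul_smul] at hbA
  have h2 : f.app G bA = a * f.app G bO := (hE _ le_rfl).1 (by simpa only [Amp73.res_self] using hbA)
  rw [map_mul, h2, mul_assoc, ← map_mul, IsUnit.mul_val_inv, map_one, mul_one]

/-- An affine surjective morphism to a reduced scheme keeping sections of powers of an ample module. -/
theorem isIso_of_pullS_surjective [IsAffineHom f] [IsReduced Y] [QuasiSeparatedSpace Y] {N : Y.Modules}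
    (hN : CohB1.IsAmple N)
    (h : ∀ m n, Function.Surjective (pullS f (CohB1.tensorPow (CohB1.tensorPow N m) n) ⊤)) : IsIso f := by
  have := hN.2.1
  haveI : CompactSpace X := QuasiCompact.compactSpace_of_compactSpace f
  haveI : QuasiSeparatedSpace X := quasiSeparatedSpace_of_quasiSeparated f
  choose m s hs haff using hN.2.2
  let G : Y → Y.Opens := fun y => CohB1.genLocus _ (s y)
  refine (IsZariskiLocalAtTarget.iff_of_iSup_eq_top (P := MorphismProperty.isomorphisms Scheme) G
    (top_le_iff.1 fun y _ => Opens.mem_iSup.2 ⟨y, hs y⟩)).2 fun y => ?_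
  show IsIso (f ∣_ G y)
  have hb : Function.Bijective (f.app (G y)) :=
    ⟨app_injective f _, surjective_app_genLocus f (EGA73.isInvertible_tensorPow hN.1 _) (h _) (s y)⟩
  haveI : IsAffine (G y : Scheme.{u}) := haff y
  haveI : IsAffine (f ⁻¹ᵁ G y : Scheme.{u}) := (haff y).preimage f
  refine (HasAffineProperty.iff_of_isAffine (P := MorphismProperty.isomorphisms Scheme)).2 ⟨inferInstance, ?_⟩
  rw [Scheme.Hom.appTop, morphismRestrict_app]
  have h2 : Function.Bijective (f.app ((G y).ι ''ᵁ ⊤)) := by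
    rw [Scheme.Opens.ι_image_top]; exact hb
  haveI : IsIso (f.app ((G y).ι ''ᵁ ⊤)) := (ConcreteCategory.isIso_iff_bijective _).2 h2
  exact IsIso.comp_isIso' inferInstance inferInstance

end Groth.Agent.Curves2.Genus0
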